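import Groth.Agent.Lib.Helper25.CdDim.KillPow

/-!
# An exactness property of `Dual2.HDI` along a distinguished triangle (helper25, for S1720)
-/

set_option autoImplicit false
universe u

namespace Groth.Agent.Lib.Helper25.CdDim

open CategoryTheory CategoryTheory.Limits CategoryTheory.Pretriangulated DerivedCategory Opposite
open Groth.Agent.Lib.Helper39.Dual

attribute [local instance] HasDerivedCategory.standard

variable {A : Type u} [CommRing A]

/-- the diagram `n ↦ (A/I^n)[0]` in `D(A)` -/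
noncomputable abbrev Sd (I : Ideal A) : ℕᵒᵖ ⥤ Dual.D A :=
  localCohomology.ringModIdeals (localCohomology.idealPowersDiagram I) ⋙
    DerivedCategory.singleFunctor (ModuleCat.{u} A) 0

/-- if `HDI(Y, 0) = 0` and `a` kills `Z` in a distinguished triangle `X → Y → Z →`, then `a` kills
`HDI(X, 0)` -/
theorem smul_hdi_eq_zero (I : Ideal A) (T : Triangle (Dual.D A)) (hT : T ∈ distTriang (Dual.D A))
    (h2 : Subsingleton (Dual2.HDI A I T.obj₂ 0)) (a : A) (ha : a • 𝟙 T.obj₃ = 0)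
    (x : Dual2.HDI A I T.obj₁ 0) : a • x = 0 := by
  obtain ⟨n, φ, rfl⟩ := hdi_exists_rep I T.obj₁ 0 x
  let φm : (Sd I).obj (op n) ⟶ T.obj₁⟦(0 : ℤ)⟧ := φ
  let ψ : (hdiDiag I T.obj₂ 0).obj (op (op n)) := φm ≫ T.mor₁⟦(0 : ℤ)⟧'
  haveI := presForget (hdiDiag I T.obj₂ 0)
  obtain ⟨k, g, hg⟩ := Concrete.colimit_rep_eq_zero A (hdiDiag I T.obj₂ 0) (op (op n)) ψ
    (h2.elim _ _)
  let π : (Sd I).obj k.unop ⟶ (Sd I).obj (op n) := (Sd I).map g.unop
  have h3 : π ≫ φm ≫ T.mor₁⟦(0 : ℤ)⟧' = 0 := hg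
  let φ' : (Sd I).obj k.unop ⟶ T.obj₁ :=
    π ≫ φm ≫ (shiftFunctorZero (Dual.D A) ℤ).hom.app T.obj₁
  have h4 : φ' ≫ T.mor₁ = 0 := by
    have hnat := (shiftFunctorZero (Dual.D A) ℤ).hom.naturality T.mor₁
    simp only [Functor.id_map] at hnat
    have h' : φ' ≫ T.mor₁ =
        (π ≫ φm ≫ T.mor₁⟦(0 : ℤ)⟧') ≫ (shiftFunctorZero (Dual.D A) ℤ).hom.app T.obj₂ := by
      simp only [φ', Category.assoc, hnat]
    rw [h', h3, zero_comp]
  obtain ⟨χ, hχ⟩ := Triangle.coyoneda_exact₂ _ (inv_rot_of_distTriang _ hT) φ' h4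
  have ha' : a • 𝟙 T.invRotate.obj₁ = 0 := by
    change a • 𝟙 (T.obj₃⟦(-1 : ℤ)⟧) = 0
    rw [← (shiftFunctor (Dual.D A) (-1 : ℤ)).map_id, ← Functor.map_smul, ha, Functor.map_zero]
  have h5 : a • φ' = 0 := by
    have h' : a • χ = 0 := by
      have : a • χ = χ ≫ (a • 𝟙 T.invRotate.obj₁) := by
        rw [Linear.comp_smul, Category.comp_id]
      rw [this, ha', comp_zero]
    have h'' : a • (χ ≫ T.invRotate.mor₁) = 0 := by
      rw [← Linear.smul_comp, h', zero_comp]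
    rw [hχ]
    exact h''
  have h6 : a • (π ≫ φm) = 0 := by
    have h' : π ≫ φm = φ' ≫ (shiftFunctorZero (Dual.D A) ℤ).inv.app T.obj₁ := by
      simp only [φ', Category.assoc, Iso.hom_inv_id_app, Category.comp_id]
    rw [h', ← Linear.smul_comp, h5, zero_comp]
  have h7 : ((hdiDiag I T.obj₁ 0).map g).hom (a • φ) = 0 := by
    change π ≫ (a • φm) = 0
    rw [Linear.comp_smul]
    exact h6
  have h8 := congrArg (fun F => F.hom (a • φ)) (colimit.w (hdiDiag I T.obj₁ 0) g)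
  simp only [ModuleCat.hom_comp, LinearMap.comp_apply] at h8
  rw [← map_smul, ← h8, h7, map_zero]

end Groth.Agent.Lib.Helper25.CdDim
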