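import Groth.Agent.Lib.Helper84.Devissage
import Groth.Agent.Lib.Helper39.Dual.HDIOmega

/-!
# Objects of `D(A)` killed by a power of an element, and an exactness property of `Dual2.HDI`
(helper25, for S1720)
-/

set_option autoImplicit false
universe u

namespace Groth.Agent.Lib.Helper25.CdDim

open CategoryTheory CategoryTheory.Limits CategoryTheory.Pretriangulated DerivedCategory Opposite
open Groth.Agent.Lib.Helper39.Dual

attribute [local instance] HasDerivedCategory.standard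

variable {A : Type u} [CommRing A]

/-- `K` is killed by a power of `f` -/
def KillPow (f : A) : ObjectProperty (Dual.D A) := fun K => ∃ m : ℕ, f ^ m • 𝟙 K = 0

instance (f : A) : (KillPow f).IsClosedUnderIsomorphisms where
  of_iso {K K'} e h := by
    obtain ⟨m, hm⟩ := h
    refine ⟨m, ?_⟩
    have h1 : f ^ m • 𝟙 K' = e.inv ≫ (f ^ m • 𝟙 K) ≫ e.hom := by
      rw [Linear.smul_comp, Linear.comp_smul, Category.id_comp, e.inv_hom_id]
    rw [h1, hm, zero_comp, comp_zero]

theorem killPow_zero (f : A) (K : Dual.D A) (hK : IsZero K) : KillPow f K :=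
  ⟨0, hK.eq_of_src _ _⟩

theorem killPow_ext (f : A) (T : Triangle (Dual.D A)) (hT : T ∈ distTriang (Dual.D A))
    (h₁ : KillPow f T.obj₁) (h₃ : KillPow f T.obj₃) : KillPow f T.obj₂ := by
  obtain ⟨m₁, hm₁⟩ := h₁
  obtain ⟨m₃, hm₃⟩ := h₃
  refine ⟨m₁ + m₃, ?_⟩
  have h : (f ^ m₃ • 𝟙 T.obj₂) ≫ T.mor₂ = 0 := by
    have h' : (f ^ m₃ • 𝟙 T.obj₂) ≫ T.mor₂ = T.mor₂ ≫ (f ^ m₃ • 𝟙 T.obj₃) := by
      rw [Linear.smul_comp, Linear.comp_smul, Category.id_comp, Category.comp_id]
    rw [h', hm₃, comp_zero]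
  obtain ⟨g, hg⟩ := Triangle.coyoneda_exact₂ T hT _ h
  have h2 : f ^ m₁ • T.mor₁ = 0 := by
    have h' : f ^ m₁ • T.mor₁ = (f ^ m₁ • 𝟙 T.obj₁) ≫ T.mor₁ := by
      rw [Linear.smul_comp, Category.id_comp]
    rw [h', hm₁, zero_comp]
  rw [pow_add, mul_smul, hg, ← Linear.comp_smul, h2, comp_zero]

theorem killPow_single (f : A) (N : ModuleCat.{u} A) (hN : ∀ x : N, f • x = 0) (i : ℤ) :
    KillPow f ((singleFunctor (ModuleCat.{u} A) i).obj N) := by
  refine ⟨1, ?_⟩
  rw [pow_one]
  have h0 : f • 𝟙 N = 0 := by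
    ext x
    exact hN x
  rw [← (singleFunctor (ModuleCat.{u} A) i).map_id, ← Functor.map_smul, h0, Functor.map_zero]

/-- a complex with bounded cohomology, all of whose cohomology modules are killed by `f`, is killed
by a power of `f` -/
theorem killPow_of_bounded (f : A) (K : Dual.D A) (a b : ℤ)
    (hK : ∀ i : ℤ, i < a ∨ b < i → IsZero ((homologyFunctor (ModuleCat.{u} A) i).obj K))
    (hf : ∀ i : ℤ, ∀ x : ((homologyFunctor (ModuleCat.{u} A) i).obj K), f • x = 0) :
    KillPow f K :=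
  Groth.Agent.Lib.Helper84.Devissage.prop_of_bounded_homology (KillPow f) (killPow_zero f)
    (killPow_ext f) K a b hK (fun i => killPow_single f _ (hf i) i)

end Groth.Agent.Lib.Helper25.CdDim
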