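import Groth.Agent.Lib.Helper25.CdDim.HDIExact
import Groth.Agent.Lib.Helper25.SkExt.EndOmega
import Groth.Agent.Lib.Helper39.LD.Bridge
import Groth.Agent.Lib.Helper39.Dual.OmegaS2
import Groth.Agent.S0333
import Groth.Agent.S0334

/-!
# `H^0_I(ω) = 0` implies `cd(A, I) < dim A` (S1720, helper25)
-/

set_option autoImplicit false
universe u

namespace Groth.Agent.Lib.Helper25.CdDim

open CategoryTheory CategoryTheory.Limits CategoryTheory.Pretriangulated DerivedCategory Opposite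
open CategoryTheory.Triangulated
open Groth.Agent.Lib.Helper84 Groth.Agent.Lib.Helper25.Bidual Groth.Agent.Lib.Helper25.LocDual
open Groth.Agent.Lib.Helper39.Dual Groth.Agent.Lib.Helper25.SkExt

attribute [local instance] HasDerivedCategory.standard

variable {A : Type u} [CommRing A] [IsLocalRing A] [IsNoetherianRing A]
  (ω : Dual.D A) (hω : Dual.IsDualizing A ω) (hn : Dual.IsNormalized A ω)

include hω hn in
/-- top-dimensional minimal primes are not in the support of `H^j(ω)` for `j ≠ -dim A` -/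
theorem not_mem_support_HD (d : ℕ) (hd : ringKrullDim A = d) (p : PrimeSpectrum A)
    (hp : p.asIdeal ∈ minimalPrimes A) (hpd : ringKrullDim (A ⧸ p.asIdeal) = d) (j : ℤ)
    (hj : j ≠ -(d : ℤ)) : p ∉ Module.support A (Dual.HD A ω j) := by
  have he : Order.coheight p = (d : ℕ∞) := by
    have h1 := ringKrullDim_quotient_eq_coheight p
    rw [hpd] at h1
    have h2 : ((d : ℕ∞) : WithBot ℕ∞) = ((Order.coheight p : ℕ∞) : WithBot ℕ∞) := h1
    exact (WithBot.coe_injective h2).symm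
  obtain ⟨hBn, ω', hω', hn', -, hHD⟩ := exists_local_model_HD ω hω hn p d he
  obtain ⟨E⟩ := hHD j
  have hBdim : ringKrullDim (Localization.AtPrime p.asIdeal) = ((0 : ℕ) : WithBot ℕ∞) := by
    rw [IsLocalization.AtPrime.ringKrullDim_eq_height p.asIdeal (Localization.AtPrime p.asIdeal)]
    have h0 : p.asIdeal.height = 0 := Ideal.height_eq_zero_iff.mpr hp
    rw [h0]
    rfl
  rw [Module.mem_support_iff, not_nontrivial_iff_subsingleton]
  have hsub : Subsingleton (Dual.HD (Localization.AtPrime p.asIdeal) ω' (j + d)) := by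
    rcases lt_or_gt_of_ne (show j + (d : ℤ) ≠ 0 by omega) with h | h
    · exact subsingleton_HD_of_lt ω' hω' hn' 0 hBdim _ (by simpa using h)
    · exact subsingleton_HD_of_pos ω' hω' hn' _ h
  exact E.toEquiv.subsingleton

include hω hn in
/-- an element avoiding the top-dimensional minimal primes and killing `H^j(ω)` for `j ≠ -dim A` -/
theorem exists_elt (d : ℕ) (hd : ringKrullDim A = d) :
    ∃ f : A, (∀ p ∈ minimalPrimes A, ringKrullDim (A ⧸ p) = d → f ∉ p) ∧
      ∀ j : ℤ, j ≠ -(d : ℤ) → ∀ x : Dual.HD A ω j, f • x = 0 := by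
  classical
  have hfin : (minimalPrimes A).Finite := minimalPrimes.finite_of_isNoetherianRing A
  let S : Finset (Ideal A) := hfin.toFinset.filter (fun p => ringKrullDim (A ⧸ p) = d)
  have hS : ∀ p, p ∈ S ↔ p ∈ minimalPrimes A ∧ ringKrullDim (A ⧸ p) = d := fun p => by
    simp only [S, Finset.mem_filter, Set.Finite.mem_toFinset]
  let J : Ideal A :=
    (Finset.Icc (-(d : ℤ) + 1) 0).inf (fun j => Module.annihilator A (Dual.HD A ω j))
  have hJ : ∀ p ∈ S, ¬ J ≤ p := by
    intro p hp hJp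
    obtain ⟨hpmin, hpd⟩ := (hS p).1 hp
    haveI hpp : p.IsPrime := hpmin.1.1
    obtain ⟨j, hj, hjp⟩ := (Ideal.IsPrime.inf_le' hpp).1 hJp
    haveI := hω.finite_cohomology j
    have hmem : (⟨p, hpp⟩ : PrimeSpectrum A) ∈ Module.support A (Dual.HD A ω j) :=
      Module.mem_support_iff_of_finite.2 hjp
    rw [Finset.mem_Icc] at hj
    exact not_mem_support_HD ω hω hn d hd ⟨p, hpp⟩ hpmin hpd j (by omega) hmem
  have hav : ¬ ((J : Set A) ⊆ ⋃ p ∈ (S : Set (Ideal A)), ((id p : Ideal A) : Set A)) := by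
    intro hsub
    obtain ⟨p, hp, hJp⟩ := (Ideal.subset_union_prime (s := S) (f := id) ⊥ ⊥
      (fun p hp _ _ => ((hS p).1 hp).1.1.1)).1 hsub
    exact hJ p hp hJp
  obtain ⟨f, hfJ, hfS⟩ := Set.not_subset.1 hav
  refine ⟨f, ?_, ?_⟩
  · intro p hp hpd hfp
    apply hfS
    simp only [Set.mem_iUnion]
    exact ⟨p, Finset.mem_coe.2 ((hS p).2 ⟨hp, hpd⟩), hfp⟩
  · intro j hj x
    by_cases hjr : j ∈ Finset.Icc (-(d : ℤ) + 1) 0
    · have h1 : f ∈ Module.annihilator A (Dual.HD A ω j) :=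
        (Finset.inf_le hjr : J ≤ _) hfJ
      exact Module.mem_annihilator.1 h1 x
    · have hsub : Subsingleton (Dual.HD A ω j) := by
        rw [Finset.mem_Icc, not_and_or] at hjr
        rcases hjr with h | h
        · exact subsingleton_HD_of_lt ω hω hn d hd j (by omega)
        · exact subsingleton_HD_of_pos ω hω hn j (by omega)
      rw [Subsingleton.elim x 0, smul_zero]

include hω hn in
/-- the truncation `τ_{> -d} ω` is killed by a power of `f` -/
theorem killPow_truncGE (d : ℕ) (hd : ringKrullDim A = d) (f : A)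
    (hf : ∀ j : ℤ, j ≠ -(d : ℤ) → ∀ x : Dual.HD A ω j, f • x = 0) :
    KillPow f (((TStructure.t : TStructure (Dual.D A)).truncGE (-(d : ℤ) + 1)).obj ω) := by
  let t : TStructure (Dual.D A) := TStructure.t
  set Z := (t.truncGE (-(d : ℤ) + 1)).obj ω with hZ
  have hZGE : Z.IsGE (-(d : ℤ) + 1) := inferInstance
  have hiso : ∀ j : ℤ, -(d : ℤ) + 1 ≤ j →
      IsIso ((homologyFunctor (ModuleCat.{u} A) j).map ((t.truncGEπ (-(d : ℤ) + 1)).app ω)) :=
    fun j hj => DerivedT.isIso_homologyMap_truncGEπ ω (-(d : ℤ) + 1) j hj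
  refine killPow_of_bounded f Z (-(d : ℤ) + 1) 0 ?_ ?_
  · intro j hj
    rcases hj with hj | hj
    · exact isZero_of_isGE Z (-(d : ℤ) + 1) j hj
    · haveI := hiso j (by omega)
      haveI := subsingleton_HD_of_pos ω hω hn j hj
      have h0 : IsZero ((homologyFunctor (ModuleCat.{u} A) j).obj ω) :=
        ModuleCat.isZero_of_subsingleton _
      exact h0.of_iso
        (asIso ((homologyFunctor (ModuleCat.{u} A) j).map ((t.truncGEπ (-(d : ℤ) + 1)).app ω))).symm
  · intro j x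
    by_cases hj : -(d : ℤ) + 1 ≤ j
    · haveI := hiso j hj
      let E := (asIso ((homologyFunctor (ModuleCat.{u} A) j).map
        ((t.truncGEπ (-(d : ℤ) + 1)).app ω))).toLinearEquiv
      obtain ⟨y, rfl⟩ := E.surjective x
      rw [← map_smul, hf j (by omega) y, map_zero]
    · have h0 : IsZero ((homologyFunctor (ModuleCat.{u} A) j).obj Z) :=
        isZero_of_isGE Z (-(d : ℤ) + 1) j (by omega)
      haveI := ModuleCat.subsingleton_of_isZero h0
      rw [Subsingleton.elim x 0, smul_zero]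

include hω hn in
/-- **S1720**: if `H^0_I(ω) = 0` then `H^i_I(M) = 0` for all `i ≥ dim A` and all modules `M`. -/
theorem main (I : Ideal A) (h0 : Subsingleton (Dual2.HDI A I ω 0)) (M : Type u) [AddCommGroup M]
    [Module A M] (i : ℕ) (hi : ringKrullDim A ≤ (i : WithBot ℕ∞)) :
    Subsingleton (LocCoh.H I i M) := by
  obtain ⟨d, hd⟩ : ∃ d : ℕ, ringKrullDim A = d := by
    have h0 : ringKrullDim A ≠ ⊥ := ringKrullDim_ne_bot
    have h1 : ringKrullDim A ≠ ⊤ := (ringKrullDim_lt_top_of_dualizing ω hω).ne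
    obtain ⟨x, hx⟩ := WithBot.ne_bot_iff_exists.1 h0
    have hx' : x ≠ ⊤ := by
      rintro rfl
      exact h1 hx.symm
    obtain ⟨d, hd⟩ := ENat.ne_top_iff_exists.1 hx'
    exact ⟨d, by rw [← hx, ← hd]; rfl⟩
  have hdi : d ≤ i := by
    rw [hd] at hi
    exact_mod_cast hi
  obtain ⟨f, hf1, hf2⟩ := exists_elt ω hω hn d hd
  obtain ⟨T, hT, h2, h3, -, -, -, ⟨e⟩⟩ := bottom_data ω hω hn d hd
  have hZ : KillPow f T.obj₃ := by
    rw [h3]
    exact killPow_truncGE ω hω hn d hd f hf2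
  obtain ⟨m, hm⟩ := hZ
  have h0' : Subsingleton (Dual2.HDI A I T.obj₂ 0) := by
    rw [h2]
    exact h0
  have hkill : ∀ x : Dual2.HDI A I T.obj₁ 0, f ^ m • x = 0 := fun x =>
    smul_hdi_eq_zero I T hT h0' (f ^ m) hm x
  -- transport to `H^d_I(ω_A)`
  haveI : Module.Finite A (Dual.HD A ω (-(d : ℤ))) := hω.finite_cohomology _
  have hkill' : ∀ y : LocCoh.H I d (Dual.HD A ω (-(d : ℤ))), f ^ m • y = 0 := by
    let θ : (Dual.inD A (Dual.HD A ω (-(d : ℤ))))⟦(d : ℤ)⟧ ≅ T.obj₁⟦(0 : ℤ)⟧ :=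
      e ≪≫ ((shiftFunctorZero (Dual.D A) ℤ).app T.obj₁).symm
    let eR : Dual2.HDI A I (Dual.inD A (Dual.HD A ω (-(d : ℤ)))) d ≅ Dual2.HDI A I T.obj₁ 0 :=
      HasColimit.isoOfNatIso (Functor.isoWhiskerLeft (Sd I).op
        ((linearYoneda A (Dual.D A)).mapIso θ))
    let E2 := Groth.Agent.Lib.Helper39.LD.hdiEquivH I d (ModuleCat.of A (Dual.HD A ω (-(d : ℤ))))
    intro y
    obtain ⟨z, rfl⟩ := E2.surjective y
    have hz : f ^ m • z = 0 := by
      apply eR.toLinearEquiv.injective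
      rw [map_smul, hkill, map_zero]
    rw [← map_smul, hz, map_zero]
  have hsurj := Groth.Agent.S0334.result A I d hd f hf1 (Dual.HD A ω (-(d : ℤ)))
  have hsurjm : ∀ k : ℕ, ∀ y : LocCoh.H I d (Dual.HD A ω (-(d : ℤ))),
      ∃ z : LocCoh.H I d (Dual.HD A ω (-(d : ℤ))), f ^ k • z = y := by
    intro k
    induction k with
    | zero => exact fun y => ⟨y, by rw [pow_zero, one_smul]⟩
    | succ k ih =>
      intro y
      obtain ⟨z, hz⟩ := ih y
      obtain ⟨w, hw⟩ := hsurj z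
      refine ⟨w, ?_⟩
      have hw' : f • w = z := hw
      rw [pow_succ, mul_smul, hw', hz]
  have hvan : Subsingleton (LocCoh.H I d (Dual.HD A ω (-(d : ℤ)))) := by
    refine ⟨fun y y' => ?_⟩
    suffices h : ∀ y : LocCoh.H I d (Dual.HD A ω (-(d : ℤ))), y = 0 from (h y).trans (h y').symm
    intro y
    obtain ⟨z, rfl⟩ := hsurjm m y
    exact hkill' z
  have hsupp : ∀ p ∈ minimalPrimes A, ringKrullDim (A ⧸ p) = d → ∀ hp : p.IsPrime,
      (⟨p, hp⟩ : PrimeSpectrum A) ∈ Module.support A (Dual.HD A ω (-(d : ℤ))) := by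
    intro p hpmin hpd hp
    rw [Module.mem_support_iff]
    exact ((omega_local_analysis ω hω hn d hd ⟨p, hp⟩).1).2 ⟨p, hpmin, le_refl _, hpd⟩
  exact Groth.Agent.S0333.result A I d hd (Dual.HD A ω (-(d : ℤ))) hsupp hvan M i hdi

end Groth.Agent.Lib.Helper25.CdDim
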